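import Groth.Agent.Vancyc.H677.LocRing
import Groth.Prelude.Def_EtBase
import Mathlib.AlgebraicGeometry.Morphisms.QuasiFinite
import Mathlib.AlgebraicGeometry.Morphisms.Etale
import Mathlib.AlgebraicGeometry.Morphisms.Proper
import Mathlib.AlgebraicGeometry.PullbackCarrier
import Mathlib.RingTheory.Etale.Field
import Mathlib.RingTheory.Artinian.Ring
import Mathlib.FieldTheory.IsSepClosed

/-!
# Geometry of a proper flat family of relative dimension zero with ordinary quadratic points

Let `R` be strictly henselian, `f : X → Spec R` proper and flat, of relative dimension zero: étale generic fibre, special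
fibre étale outside the finite set `Sing` of ordinary quadratic points.  Then the geometric generic fibre is finite, every
point of `X` specializes to exactly one point of the special fibre, and the points of the geometric generic fibre
specializing to `x` are at most `2` (at most `1` if `x ∉ Sing`).
-/

set_option autoImplicit false
universe u
open CategoryTheory CategoryTheory.Limits AlgebraicGeometry

open scoped TensorProduct

namespace Groth.Agent.Vancyc.H699.Dim0

open IsLocalRing VanCyc Groth.Agent.Vancyc.H677 Groth.Agent.Vancyc.H677.FibStalk Groth.Agent.Vancyc.H677.LocRing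

section Alg

/-- a finite algebra over a field has at most as many primes as its dimension. -/
theorem card_le_finrank (Ω C : Type u) [Field Ω] [CommRing C] [Algebra Ω C] [Module.Finite Ω C] :
    Finite (PrimeSpectrum C) ∧ Nat.card (PrimeSpectrum C) ≤ Module.finrank Ω C := by
  have hart : IsArtinianRing C := IsArtinianRing.of_finite Ω C
  have hfin : Finite (PrimeSpectrum C) := inferInstance
  refine ⟨hfin, ?_⟩
  have := Fintype.ofFinite (PrimeSpectrum C)
  have hmax : ∀ p : PrimeSpectrum C, p.asIdeal.IsMaximal := fun p => by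
    have := p.isPrime
    exact IsArtinianRing.isMaximal_of_isPrime p.asIdeal
  let φ : C →ₗ[Ω] ((p : PrimeSpectrum C) → C ⧸ p.asIdeal) :=
    LinearMap.pi fun p => (Ideal.Quotient.mkₐ Ω p.asIdeal).toLinearMap
  have hφ : Function.Surjective φ := by
    intro x
    obtain ⟨r, hr⟩ := Ideal.pi_quotient_surjective (I := fun p : PrimeSpectrum C => p.asIdeal)
      (fun p q hpq => by
        have := hmax p
        have := hmax q
        exact Ideal.isCoprime_of_isMaximal (fun h => hpq (PrimeSpectrum.ext h))) x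
    exact ⟨r, funext hr⟩
  have h1 := LinearMap.finrank_le_finrank_of_surjective hφ
  rw [Module.finrank_pi_fintype] at h1
  refine le_trans ?_ h1
  rw [Nat.card_eq_fintype_card, Fintype.card, Finset.card_eq_sum_ones]
  refine Finset.sum_le_sum fun p _ => ?_
  have := hmax p
  have : Nontrivial (C ⧸ p.asIdeal) := Ideal.Quotient.nontrivial_iff.mpr (hmax p).ne_top
  exact Module.finrank_pos

/-- comparison of the closed fibre of `B` with `O` (any rank). -/
theorem finite_and_finrank {R B O : Type u} [CommRing R] [IsLocalRing R] [CommRing B] [CommRing O]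
    [Algebra R B] (ψ : ResidueField R →+* O) (π : B →+* O) (hπ : Function.Surjective π)
    (hker : RingHom.ker π = (maximalIdeal R).map (algebraMap R B))
    (hcomp : ∀ r, π (algebraMap R B r) = ψ (residue R r)) (n : ℕ) (hn : 0 < n)
    (h2 : letI := ψ.toAlgebra; Module.finrank (ResidueField R) O = n) :
    Module.Finite R (B ⧸ (maximalIdeal R).map (algebraMap R B)) ∧
    ((Module.finrank (R ⧸ maximalIdeal R) (B ⧸ (maximalIdeal R).map (algebraMap R B))) = n) := by
  let _ := ψ.toAlgebra
  have hfin : Module.Finite (ResidueField R) O := Module.finite_of_finrank_pos (by rw [h2]; exact hn)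
  let _ : Algebra R O := (ψ.comp (residue R)).toAlgebra
  have : IsScalarTower R (ResidueField R) O := IsScalarTower.of_algebraMap_eq' rfl
  let e0 : (B ⧸ (maximalIdeal R).map (algebraMap R B)) ≃+* O :=
    (Ideal.quotEquivOfEq hker.symm).trans (RingHom.quotientKerEquivOfSurjective hπ)
  have he0 : ∀ b : B, e0 (Ideal.Quotient.mk _ b) = π b := fun b => rfl
  let e : (B ⧸ (maximalIdeal R).map (algebraMap R B)) ≃ₐ[R] O :=
    AlgEquiv.ofRingEquiv (f := e0) (fun r => (he0 _).trans (hcomp r))
  have h3 : Module.Finite R O := Module.Finite.trans (ResidueField R) O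
  refine ⟨Module.Finite.equiv e.symm.toLinearEquiv, ?_⟩
  rw [← h2]
  refine Algebra.finrank_eq_of_equiv_equiv (RingEquiv.refl (R ⧸ maximalIdeal R) :
    (R ⧸ maximalIdeal R) ≃+* ResidueField R) e0 ?_
  ext r
  exact ((he0 _).trans (hcomp r)).symm

/-- a local ring that is essentially of finite type and formally étale over a separably closed field is the field. -/
theorem finrank_eq_one (k A : Type u) [Field k] [IsSepClosed k] [CommRing A] [IsLocalRing A] [Algebra k A]
    [Algebra.EssFiniteType k A] [Algebra.FormallyEtale k A] : Module.finrank k A = 1 := by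
  let E : A ≃ₐ[k] (PrimeSpectrum A → k) := Algebra.FormallyEtale.equivPiOfIsSepClosed k A
  have hsub : Subsingleton (PrimeSpectrum A) := by
    refine ⟨fun p q => ?_⟩
    by_contra hpq
    classical
    have hid : IsIdempotentElem (E.symm (Pi.single p 1)) := by
      rw [IsIdempotentElem, ← map_mul]
      congr 1
      funext r
      by_cases hr : r = p
      · subst hr; simp
      · simp [hr]
    have hid' : E.symm (Pi.single p 1) = 0 ∨ E.symm (Pi.single p 1) = 1 := by
      have h0 : E.symm (Pi.single p 1) * (1 - E.symm (Pi.single p 1)) = 0 := by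
        rw [mul_sub, mul_one, hid.eq, sub_self]
      rcases IsLocalRing.isUnit_or_isUnit_one_sub_self (E.symm (Pi.single p 1)) with h | h
      · right
        have := h.mul_right_eq_zero.mp h0
        exact (sub_eq_zero.mp this).symm
      · left
        exact h.mul_left_eq_zero.mp h0
    rcases hid' with h | h
    · have h1 : (Pi.single p 1 : PrimeSpectrum A → k) = 0 := by
        apply E.symm.injective
        rw [h, map_zero]
      have h2 := congrFun h1 p
      simp at h2
    · have h1 : (Pi.single p 1 : PrimeSpectrum A → k) = 1 := by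
        apply E.symm.injective
        rw [h, map_one]
      have h2 := congrFun h1 q
      rw [Pi.single_eq_of_ne (Ne.symm hpq)] at h2
      simp at h2
  have : Unique (PrimeSpectrum A) := { default := closedPoint A, uniq := fun p => Subsingleton.elim _ _ }
  rw [E.toLinearEquiv.finrank_eq]
  have := Fintype.ofFinite (PrimeSpectrum A)
  rw [Module.finrank_fintype_fun_eq_card]
  exact Fintype.card_unique

end Alg

section Etale

variable {R : Type u} [CommRing R] {Y : Scheme.{u}} (g : Y ⟶ Spec (CommRingCat.of R))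

theorem fromSpec_comp (V : Y.Opens) (hV : IsAffineOpen V) :
    hV.fromSpec ≫ g = Spec.map (CommRingCat.ofHom (strAff g V)) := by
  have h := IsAffineOpen.SpecMap_appLE_fromSpec g (isAffineOpen_top _) hV le_top
  rw [← h, IsAffineOpen.fromSpec_top, Scheme.isoSpec_Spec_inv, ← Spec.map_comp]
  rfl

theorem etale_strAff (U : Y.Opens) [hU : Etale (U.ι ≫ g)] (V : Y.Opens) (hV : IsAffineOpen V) (hVU : V ≤ U) :
    (strAff g V).Etale := by
  let j : Spec Γ(Y, V) ⟶ U := IsOpenImmersion.lift U.ι hV.fromSpec (by
    rw [hV.range_fromSpec, Scheme.Opens.range_ι]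
    exact hVU)
  have hj : j ≫ U.ι = hV.fromSpec := IsOpenImmersion.lift_fac _ _ _
  have hjo : IsOpenImmersion j := by
    have : IsOpenImmersion (j ≫ U.ι) := hj ▸ inferInstance
    exact IsOpenImmersion.of_comp j U.ι
  have h1 : Etale (j ≫ (U.ι ≫ g)) := inferInstance
  rw [← Category.assoc, hj, fromSpec_comp g V hV] at h1
  exact (HasRingHomProperty.Spec_iff (P := @Etale)).mp h1

end Etale

section Field

variable {k : Type u} [Field k] [IsSepClosed k] {Y : Scheme.{u}} (g : Y ⟶ Spec (CommRingCat.of k))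

/-- the local rings of an étale scheme over a separably closed field. -/
theorem finrank_stalk_eq_one (U : Y.Opens) [Etale (U.ι ≫ g)] (y : Y) (hy : y ∈ U) :
    letI := (resHom g y).toAlgebra
    Module.finrank k (Y.presheaf.stalk y) = 1 := by
  obtain ⟨V, hV, hyV, hVU⟩ := TopologicalSpace.Opens.isBasis_iff_nbhd.mp Y.isBasis_affineOpens hy
  have hV' : IsAffineOpen V := hV
  have h1 := etale_strAff g U V hV' hVU
  let _ : Algebra k (Y.presheaf.stalk y) := (resHom g y).toAlgebra
  let _ : Algebra Γ(Y, V) (Y.presheaf.stalk y) := (Y.presheaf.germ V y hyV).hom.toAlgebra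
  let _ : Algebra k Γ(Y, V) := (strAff g V).toAlgebra
  have htower : IsScalarTower k Γ(Y, V) (Y.presheaf.stalk y) := by
    refine IsScalarTower.of_algebraMap_eq' ?_
    change resHom g y = (Y.presheaf.germ V y hyV).hom.comp (strAff g V)
    rw [germ_strAff g V y hyV, strHom_eq_resHom]
  have hloc : IsLocalization.AtPrime (Y.presheaf.stalk y) (hV'.primeIdealOf ⟨y, hyV⟩).asIdeal :=
    hV'.isLocalization_stalk ⟨y, hyV⟩
  have h2 : Algebra.Etale k Γ(Y, V) := RingHom.etale_algebraMap.mp h1
  have h3 : Algebra.FormallyEtale Γ(Y, V) (Y.presheaf.stalk y) :=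
    Algebra.FormallyEtale.of_isLocalization (hV'.primeIdealOf ⟨y, hyV⟩).asIdeal.primeCompl
  have h4 : Algebra.EssFiniteType Γ(Y, V) (Y.presheaf.stalk y) :=
    Algebra.EssFiniteType.of_isLocalization _ (hV'.primeIdealOf ⟨y, hyV⟩).asIdeal.primeCompl
  have h5 : Algebra.FormallyEtale k (Y.presheaf.stalk y) :=
    Algebra.FormallyEtale.comp k Γ(Y, V) (Y.presheaf.stalk y)
  have h6 : Algebra.EssFiniteType k (Y.presheaf.stalk y) :=
    Algebra.EssFiniteType.comp k Γ(Y, V) (Y.presheaf.stalk y)
  exact finrank_eq_one k (Y.presheaf.stalk y)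

end Field

section Stalk

variable {R : Type u} [CommRing R] {X : Scheme.{u}} (f : X ⟶ Spec (CommRingCat.of R))

/-- the local ring of `X` at a point of the special fibre whose local ring there has dimension `n`. -/
theorem stalk_props [HenselianLocalRing R] [LocallyOfFiniteType f] [Flat f]
    (x : spFib R f) (n : ℕ) (hn : 0 < n)
    (h2 : letI := (resHom (spStr R f) x).toAlgebra
      Module.finrank (ResidueField R) ((spFib R f).presheaf.stalk x) = n) :
    letI := (strHom f (icl R f x)).toAlgebra
    Module.Finite R (X.presheaf.stalk (icl R f x)) ∧ Module.Free R (X.presheaf.stalk (icl R f x)) ∧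
      Module.finrank R (X.presheaf.stalk (icl R f x)) = n := by
  let _ : Algebra R (X.presheaf.stalk (icl R f x)) := (strHom f (icl R f x)).toAlgebra
  obtain ⟨h3, h4⟩ := finite_and_finrank (R := R) (B := X.presheaf.stalk (icl R f x))
    (O := (spFib R f).presheaf.stalk x) (resHom (spStr R f) x) ((icl R f).stalkMap x).hom
    (stalkMap_icl_surjective R f x) (ker_stalkMap_icl R f x)
    (fun r => stalkMap_icl_strHom R f x r) n hn h2
  have hle : (maximalIdeal R).map (strHom f (icl R f x)) ≤
      maximalIdeal (X.presheaf.stalk (icl R f x)) :=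
    (fibIdeal_le_ker R f x).trans (IsLocalRing.le_maximalIdeal (RingHom.ker_ne_top _))
  have hfin : Module.Finite R (X.presheaf.stalk (icl R f x)) :=
    RingHom.finite_algebraMap.mp (finite_stalk_of_fibre f (icl R f x) hle h3)
  have hflat : Module.Flat R (X.presheaf.stalk (icl R f x)) :=
    RingHom.flat_algebraMap_iff.mp (flat_strHom f (icl R f x))
  have hfree : Module.Free R (X.presheaf.stalk (icl R f x)) := Module.free_of_flat_of_isLocalRing
  refine ⟨hfin, hfree, ?_⟩
  rw [← IsLocalRing.finrank_quotient_map]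
  exact h4

/-- the set of generizations of a point with finite local ring is closed. -/
theorem isClosed_generizations [IsSeparated f] (y : X) (hfin : (strHom f y).Finite) :
    IsClosed {z : X | z ⤳ y} := by
  have h1 : IsFinite (X.fromSpecStalk y ≫ f) := by
    rw [fromSpecStalk_comp]
    exact (IsFinite.SpecMap_iff _).mpr hfin
  have h2 : IsFinite (X.fromSpecStalk y) := IsFinite.of_comp _ f
  rw [← Scheme.range_fromSpecStalk]
  exact (X.fromSpecStalk y).isClosedMap.isClosed_range

/-- every point specializes to a point of the special fibre. -/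
theorem exists_specializes [IsLocalRing R] [UniversallyClosed f] (y : X) : ∃ x : spFib R f, y ⤳ icl R f x := by
  have h1 : IsClosed (f '' closure {y}) := f.isClosedMap _ isClosed_closure
  have h2 : closedPoint R ∈ f '' closure {y} := by
    have h3 : f y ⤳ closedPoint R := IsLocalRing.specializes_closedPoint _
    exact h3.mem_closed h1 ⟨y, subset_closure rfl, rfl⟩
  obtain ⟨z, hz, hzc⟩ := h2
  have h4 : z ∈ Set.range (icl R f) := by
    rw [Scheme.Pullback.range_fst]
    refine ⟨closedPoint _, ?_⟩
    rw [hzc]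
    exact IsLocalRing.comap_closedPoint (IsLocalRing.residue R)
  obtain ⟨x, rfl⟩ := h4
  exact ⟨x, specializes_iff_mem_closure.mpr hz⟩

/-- the point of the special fibre is unique. -/
theorem specializes_unique [IsLocalRing R] [IsSeparated f]
    (hfin : ∀ x : spFib R f, (strHom f (icl R f x)).Finite) (y : X) (x₁ x₂ : spFib R f)
    (h₁ : y ⤳ icl R f x₁) (h₂ : y ⤳ icl R f x₂) : x₁ = x₂ := by
  have h3 : ∀ a b : spFib R f, y ⤳ icl R f a → y ⤳ icl R f b → icl R f b ⤳ icl R f a := by
    intro a b ha hb
    exact hb.mem_closed (isClosed_generizations f _ (hfin a)) ha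
  have h4 : icl R f x₁ = icl R f x₂ := ((h3 x₂ x₁ h₂ h₁).antisymm (h3 x₁ x₂ h₁ h₂)).eq
  exact (icl R f).isClosedEmbedding.injective h4

end Stalk

section Count

variable {R : Type u} [CommRing R] {X : Scheme.{u}} (f : X ⟶ Spec (CommRingCat.of R))
  (Ω : Type u) [Field Ω] [Algebra R Ω]

/-- number of points of the fibre over `Ω` specializing to a point with finite free local ring. -/
theorem card_le (y : X) (n : ℕ)
    (h : letI := (strHom f y).toAlgebra
      Module.Finite R (X.presheaf.stalk y) ∧ Module.Free R (X.presheaf.stalk y) ∧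
        Module.finrank R (X.presheaf.stalk y) = n) [Nontrivial R] :
    Finite {z : fib R f Ω // jA R f Ω z ⤳ y} ∧ Nat.card {z : fib R f Ω // jA R f Ω z ⤳ y} ≤ n := by
  let _ : Algebra R (X.presheaf.stalk y) := (strHom f y).toAlgebra
  obtain ⟨h1, h2, h3⟩ := h
  let e : pullback (X.fromSpecStalk y) (jA R f Ω) ≅ Spec (CommRingCat.of (X.presheaf.stalk y ⊗[R] Ω)) :=
    pullbackRightPullbackFstIso f (toS R Ω) (X.fromSpecStalk y) ≪≫
      pullback.congrHom (fromSpecStalk_comp f y) rfl ≪≫ pullbackSpecIso R (X.presheaf.stalk y) Ω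
  let e1 : ↥(pullback (X.fromSpecStalk y) (jA R f Ω)) ≃ PrimeSpectrum (X.presheaf.stalk y ⊗[R] Ω) :=
    (Scheme.homeoOfIso e).toEquiv
  let e2 : PrimeSpectrum (X.presheaf.stalk y ⊗[R] Ω) ≃ PrimeSpectrum (Ω ⊗[R] X.presheaf.stalk y) :=
    (PrimeSpectrum.comapEquiv (Algebra.TensorProduct.comm R (X.presheaf.stalk y) Ω).toRingEquiv).toEquiv
  obtain ⟨h4, h5⟩ := card_le_finrank Ω (Ω ⊗[R] X.presheaf.stalk y)
  rw [Module.finrank_baseChange, h3] at h5
  let ψ : ↥(pullback (X.fromSpecStalk y) (jA R f Ω)) → {z : fib R f Ω // jA R f Ω z ⤳ y} := fun p =>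
    ⟨pullback.snd (X.fromSpecStalk y) (jA R f Ω) p, by
      have : jA R f Ω (pullback.snd (X.fromSpecStalk y) (jA R f Ω) p) ∈ Set.range (X.fromSpecStalk y) := by
        have h6 : pullback.snd (X.fromSpecStalk y) (jA R f Ω) p ∈
            Set.range (pullback.snd (X.fromSpecStalk y) (jA R f Ω)) := ⟨p, rfl⟩
        rw [Scheme.Pullback.range_snd] at h6
        exact h6
      rw [Scheme.range_fromSpecStalk] at this
      exact this⟩
  have hψ : Function.Surjective ψ := by
    rintro ⟨z, hz⟩
    have h6 : z ∈ Set.range (pullback.snd (X.fromSpecStalk y) (jA R f Ω)) := by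
      rw [Scheme.Pullback.range_snd]
      change jA R f Ω z ∈ Set.range (X.fromSpecStalk y)
      rw [Scheme.range_fromSpecStalk]
      exact hz
    obtain ⟨p, hp⟩ := h6
    exact ⟨p, Subtype.ext hp⟩
  have h7 : Finite ↥(pullback (X.fromSpecStalk y) (jA R f Ω)) := Finite.of_equiv _ (e1.trans e2).symm
  refine ⟨Finite.of_surjective ψ hψ, ?_⟩
  refine (Nat.card_le_card_of_surjective ψ hψ).trans ?_
  rw [Nat.card_congr (e1.trans e2)]
  exact h5

end Count

section Fin

theorem locallyQuasiFinite_of_etale {X Y : Scheme.{u}} (f : X ⟶ Y) [hf : Etale f] : LocallyQuasiFinite f := by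
  rw [HasRingHomProperty.iff_appLE (P := @LocallyQuasiFinite)]
  intro U V e
  have h := (HasRingHomProperty.iff_appLE (P := @Etale)).mp hf U V e
  let _ := (f.appLE U V e).hom.toAlgebra
  have h1 : Algebra.Etale Γ(Y, U) Γ(X, V) := RingHom.etale_algebraMap.mp h
  have h2 : Algebra.QuasiFinite Γ(Y, U) Γ(X, V) := inferInstance
  exact h2

/-- a quasi-compact étale scheme over a field is finite. -/
theorem finite_of_etale {k : Type u} [Field k] {Y : Scheme.{u}} (g : Y ⟶ Spec (CommRingCat.of k))
    [Etale g] [QuasiCompact g] : Finite Y := by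
  have := locallyQuasiFinite_of_etale g
  have h1 : (g ⁻¹' (Set.univ : Set ↥(Spec (CommRingCat.of k)))).Finite := by
    refine Scheme.Hom.finite_preimage g ?_
    have : Subsingleton ↥(Spec (CommRingCat.of k)) :=
      (inferInstance : Subsingleton (PrimeSpectrum k))
    exact Set.subsingleton_univ.finite
  rw [Set.preimage_univ] at h1
  exact Set.finite_univ_iff.mp h1

end Fin

section Main

/-- geometry of the case of relative dimension zero. -/
theorem main (R K Ω : Type u) [CommRing R] [IsDomain R] [IsDiscreteValuationRing R]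
    (hR : EtCoh.IsStrictlyHenselianLocalRing R) [Field K] [Algebra R K] [Field Ω]
    [Algebra K Ω] [Algebra R Ω] [IsScalarTower R K Ω]
    {X : Scheme.{u}} (f : X ⟶ Spec (CommRingCat.of R)) [IsProper f] [Flat f]
    (hη : SmoothOfRelativeDimension 0 (VanCyc.fibStr R f K))
    (Sing : Finset ↥(VanCyc.spFib R f)) (hSc : ∀ x ∈ Sing, IsClosed ({x} : Set ↥(VanCyc.spFib R f)))
    (hSq : ∀ x ∈ Sing, VanCyc.IsOrdQuadPt (VanCyc.resHom (VanCyc.spStr R f) x) 0)
    (U : (VanCyc.spFib R f).Opens) (hU : ∀ x : ↥(VanCyc.spFib R f), x ∉ Sing → x ∈ U)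
    (hUs : SmoothOfRelativeDimension 0 (U.ι ≫ VanCyc.spStr R f)) :
    Finite ↥(VanCyc.fib R f Ω) ∧ ∃ r : ↥X → ↥(VanCyc.spFib R f),
      (∀ y : ↥X, y ⤳ VanCyc.icl R f (r y)) ∧
      (∀ (y : ↥X) (x : ↥(VanCyc.spFib R f)), y ⤳ VanCyc.icl R f x → r y = x) ∧
      ∀ x : ↥(VanCyc.spFib R f),
        Nat.card {y : ↥(VanCyc.fib R f Ω) // r ((VanCyc.jA R f Ω).base y) = x} ≤ 2 ∧
        (x ∉ Sing → Nat.card {y : ↥(VanCyc.fib R f Ω) // r ((VanCyc.jA R f Ω).base y) = x} ≤ 1) := by
  obtain ⟨hH, hk⟩ := hR
  -- finiteness of the geometric generic fibre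
  have h1 : Etale (VanCyc.fibStr R f K) := (AlgebraicGeometry.Etale.iff_smoothOfRelativeDimension_zero _).mpr hη
  have h2 : Etale (pullback.snd (VanCyc.fibStr R f K) (toS K Ω)) := inferInstance
  have h3 : QuasiCompact (pullback.snd (VanCyc.fibStr R f K) (toS K Ω)) := inferInstance
  have hfinΩ : Finite ↥(VanCyc.fib R f Ω) := by
    have h4 := finite_of_etale (pullback.snd (VanCyc.fibStr R f K) (toS K Ω))
    let e : pullback (VanCyc.fibStr R f K) (toS K Ω) ≅ VanCyc.fib R f Ω :=
      pullbackLeftPullbackSndIso f (toS R K) (toS K Ω) ≪≫ pullback.congrHom rfl (toS_comp R K Ω)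
    exact Finite.of_equiv _ (Scheme.homeoOfIso e).toEquiv
  -- the local rings at the points of the special fibre
  have hU' : Etale (U.ι ≫ VanCyc.spStr R f) := (AlgebraicGeometry.Etale.iff_smoothOfRelativeDimension_zero _).mpr hUs
  have hone : ∀ x : ↥(VanCyc.spFib R f), x ∉ Sing →
      letI := (strHom f (icl R f x)).toAlgebra
      Module.Finite R (X.presheaf.stalk (icl R f x)) ∧ Module.Free R (X.presheaf.stalk (icl R f x)) ∧
        Module.finrank R (X.presheaf.stalk (icl R f x)) = 1 := fun x hx =>
    stalk_props f x 1 one_pos (finrank_stalk_eq_one (spStr R f) U x (hU x hx))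
  have htwo : ∀ x : ↥(VanCyc.spFib R f), x ∈ Sing →
      letI := (strHom f (icl R f x)).toAlgebra
      Module.Finite R (X.presheaf.stalk (icl R f x)) ∧ Module.Free R (X.presheaf.stalk (icl R f x)) ∧
        Module.finrank R (X.presheaf.stalk (icl R f x)) = 2 := fun x hx => by
    have h := LocRing.stalk_props f x (hSc x hx) (hSq x hx)
    exact ⟨h.1, h.2.1, h.2.2.1⟩
  have hfin : ∀ x : ↥(VanCyc.spFib R f), (strHom f (icl R f x)).Finite := fun x => by
    by_cases hx : x ∈ Sing
    · exact (htwo x hx).1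
    · exact (hone x hx).1
  choose r hr using exists_specializes f
  have hr' : ∀ (y : ↥X) (x : ↥(VanCyc.spFib R f)), y ⤳ VanCyc.icl R f x → r y = x := fun y x hyx =>
    specializes_unique f hfin y (r y) x (hr y) hyx
  have hcard : ∀ (x : ↥(VanCyc.spFib R f)) (n : ℕ),
      (letI := (strHom f (icl R f x)).toAlgebra
      Module.Finite R (X.presheaf.stalk (icl R f x)) ∧ Module.Free R (X.presheaf.stalk (icl R f x)) ∧
        Module.finrank R (X.presheaf.stalk (icl R f x)) = n) →
      Nat.card {y : ↥(VanCyc.fib R f Ω) // r ((VanCyc.jA R f Ω).base y) = x} ≤ n := by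
    intro x n h
    have h5 := (card_le f Ω (icl R f x) n h).2
    have h6 : ∀ y : ↥(VanCyc.fib R f Ω), r ((VanCyc.jA R f Ω).base y) = x ↔ jA R f Ω y ⤳ icl R f x :=
      fun y => ⟨fun h => h ▸ hr _, fun h => hr' _ _ h⟩
    rwa [Nat.card_congr (Equiv.subtypeEquivRight h6)]
  refine ⟨hfinΩ, r, hr, hr', fun x => ⟨?_, fun hx => hcard x 1 (hone x hx)⟩⟩
  by_cases hx : x ∈ Sing
  · exact hcard x 2 (htwo x hx)
  · exact (hcard x 1 (hone x hx)).trans one_le_two

/-- the form used in the rows: fibre cardinalities of a retraction onto the special fibre. -/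
theorem geo (R K Ω : Type u) [CommRing R] [IsDomain R] [IsDiscreteValuationRing R]
    (hR : EtCoh.IsStrictlyHenselianLocalRing R) [Field K] [Algebra R K] [Field Ω]
    [Algebra K Ω] [Algebra R Ω] [IsScalarTower R K Ω]
    {X : Scheme.{u}} (f : X ⟶ Spec (CommRingCat.of R)) [IsProper f] [Flat f]
    (hη : SmoothOfRelativeDimension 0 (VanCyc.fibStr R f K))
    (Sing : Finset ↥(VanCyc.spFib R f)) (hSc : ∀ x ∈ Sing, IsClosed ({x} : Set ↥(VanCyc.spFib R f)))
    (hSq : ∀ x ∈ Sing, VanCyc.IsOrdQuadPt (VanCyc.resHom (VanCyc.spStr R f) x) 0)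
    (U : (VanCyc.spFib R f).Opens) (hU : ∀ x : ↥(VanCyc.spFib R f), x ∉ Sing → x ∈ U)
    (hUs : SmoothOfRelativeDimension 0 (U.ι ≫ VanCyc.spStr R f)) :
    Finite ↥(VanCyc.fib R f Ω) ∧ ∃ r : ↥X → ↥(VanCyc.spFib R f), ∀ x : ↥(VanCyc.spFib R f),
        Nat.card {y : ↥(VanCyc.fib R f Ω) // r ((VanCyc.jA R f Ω).base y) = x} ≤ 2 ∧
        (x ∉ Sing → Nat.card {y : ↥(VanCyc.fib R f Ω) // r ((VanCyc.jA R f Ω).base y) = x} ≤ 1) := by
  obtain ⟨h1, r, -, -, h2⟩ := main R K Ω hR f hη Sing hSc hSq U hU hUs
  exact ⟨h1, r, h2⟩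

end Main

end Groth.Agent.Vancyc.H699.Dim0
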