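import Groth.Agent.EtpbcB.BCMor
import Groth.Agent.EtpbcA.KilledCat
import Groth.Agent.EtpbcB.NKillEt
import Groth.Agent.Etbc.H185.BcMap

/-!
# The derived base change morphism `EtBC.bcMap` on sheaves killed by an invertible integer

`isIso_bcMap_single`: for a cartesian square `g' ≫ f = f' ≫ g` with `f` quasi-compact quasi-separated and `g`
satisfying `BCMor S` (abstract base change in every degree, canonical in degree zero, for torsion of order
invertible on `S`), and `F` killed by `n > 0` invertible on `S`, the morphism `EtBC.bcMap f g f' g' w adj F` is an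
isomorphism for every adjunction `adj`.
`isIso_bcMap_of_killed`: the same for any bounded below complex of sheaves killed by `n`.
-/

set_option autoImplicit false
universe u

open CategoryTheory CategoryTheory.Limits Opposite AlgebraicGeometry

attribute [local instance] HasDerivedCategory.standard

noncomputable section
namespace Groth.Agent.Vancyc.H699.BcMapUbc

open Groth.Agent.EtpbcB Groth.Agent.EtpbcB.NKill Groth.Agent.EtpbcB.NKillEt Groth.Agent.EtpbcB.BCU
  Groth.Agent.EtpbcA Groth.Agent.Etrest.RDer2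

variable {S X Y X' Y' : Scheme.{u}}

/-- Sheaves killed by an integer invertible on `S` are torsion of orders invertible on `S`. -/
theorem isTorsionInvertibleOn_of_killedBy {n : ℕ} (hS : IsUnit (n : Γ(S, ⊤))) {F : EtCoh.Ab X}
    (hF : EtCoh.KilledBy n F) : EtPBC.IsTorsionInvertibleOn S F := by
  intro U s x
  refine ⟨U, 𝟙 U, n, ⟨x, rfl⟩, hS, ?_⟩
  rw [← map_nsmul, hF U s, map_zero]

/-- The criterion for bounded below complexes of sheaves killed by `n`. -/
theorem isIso_bcMap_of_killed (f : X ⟶ Y) (g : Y' ⟶ Y) (f' : X' ⟶ Y') (g' : X' ⟶ X)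
    (sq : IsPullback g' f' f g) [QuasiCompact f] [QuasiSeparated f] (hg : BCMor S g)
    {n : ℕ} (hn : 0 < n) (hS : IsUnit (n : Γ(S, ⊤)))
    [PreservesFiniteLimits (EtCoh.pull g)] [PreservesFiniteLimits (EtCoh.pull g')]
    [DCoh.HasRpushEt X f] [DCoh.HasRpushEt X' f'] [DCoh.HasRpushEt Y' g]
    (adj : EtBC.pullD g ⊣ DCoh.RpushEt Y' g) (K : DCoh.DEt X)
    (L : CochainComplex (EtCoh.Ab X) ℤ) (a : ℤ) [L.IsStrictlyGE a] (hL : ∀ m, Killed n (L.X m))
    (e : Nonempty (DerivedCategory.Q.obj L ≅ K)) :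
    IsIso (EtBC.bcMap f g f' g' sq.w adj K) := by
  obtain ⟨e⟩ := e
  obtain ⟨I, i, hi, hI, hK⟩ := KilledCat.exists_resolution (n := n) L a hL
  have hi' : IsIso (DerivedCategory.Q.map i) := inferInstance
  have hinv : ∀ m, EtPBC.IsTorsionInvertibleOn S (I.X m) := fun m =>
    isTorsionInvertibleOn_of_killedBy hS ((killedBy_iff n _).2 (hK m).1)
  refine Groth.Agent.Etbc.H185.BcMap.isIso_bcMap_of_acyc f g f' g' sq.w adj K I a
    ⟨(asIso (DerivedCategory.Q.map i)).symm ≪≫ e⟩ (fun m q => ?_) (fun m q => ?_) (fun m => ?_)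
  · exact isZero_Rpush_of_nInj f hn ((killedBy_iff n _).2 (hK m).1) (hK m).2 (q + 1) (Nat.succ_pos q)
  · refine hg.acyc sq (hinv m) (fun q hq => ?_) (q + 1) (Nat.succ_pos q)
    exact isZero_Rpush_of_nInj f hn ((killedBy_iff n _).2 (hK m).1) (hK m).2 q hq
  · exact (hg f f' g' sq (I.X m) (hinv m)).2

/-- The base change morphism on a sheaf killed by `n`. -/
theorem isIso_bcMap_single (f : X ⟶ Y) (g : Y' ⟶ Y) (f' : X' ⟶ Y') (g' : X' ⟶ X)
    (sq : IsPullback g' f' f g) [QuasiCompact f] [QuasiSeparated f] (hg : BCMor S g)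
    {n : ℕ} (hn : 0 < n) (hS : IsUnit (n : Γ(S, ⊤)))
    [PreservesFiniteLimits (EtCoh.pull g)] [PreservesFiniteLimits (EtCoh.pull g')]
    [DCoh.HasRpushEt X f] [DCoh.HasRpushEt X' f'] [DCoh.HasRpushEt Y' g]
    (adj : EtBC.pullD g ⊣ DCoh.RpushEt Y' g) (F : EtCoh.Ab X) (hF : EtCoh.KilledBy n F) :
    IsIso (EtBC.bcMap f g f' g' sq.w adj (EtBC.single X F)) := by
  refine isIso_bcMap_of_killed f g f' g' sq hg hn hS adj _
    ((HomologicalComplex.single (EtCoh.Ab X) (.up ℤ) 0).obj F) 0 (fun m => ?_) ⟨?_⟩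
  · by_cases hm : m = 0
    · subst hm
      exact killed_of_mono (HomologicalComplex.singleObjXSelf (.up ℤ) 0 F).hom ((killedBy_iff n F).1 hF)
    · exact (HomologicalComplex.isZero_single_obj_X (.up ℤ) 0 F m hm).eq_of_src _ _
  · exact ((DerivedCategory.singleFunctorIsoCompQ (EtCoh.Ab X) 0).symm.app F)

end Groth.Agent.Vancyc.H699.BcMapUbc
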