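import Groth.Agent.Vancyc.H699.SepTensor
import Groth.Agent.Etbc.H203.Completion
import Mathlib.RingTheory.Localization.BaseChange

/-!
# `S ⊗_R Ω = Ω'` for separable closures of henselian discretely valued fields and completion

`isPushout_of_dense`: `R → S` henselian discrete valuation rings with common uniformizer, `R` dense in `S`;
`isPushout_completion`: `S` the completion of `R`.  The hypotheses on algebra structures are those of S4017.
-/

set_option autoImplicit false
universe u
open Polynomial TensorProduct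

namespace Groth.Agent.Vancyc.H699.SepPushout

open Groth.Agent.Etbc.H203.Descend Groth.Agent.Etbc.H203 Groth.Agent.Vancyc.H699.SepTensor

/-- `S ⊗_R K = Kh`. -/
theorem isPushout_fractions (R S K Kh : Type u) [CommRing R] [IsDomain R] [IsDiscreteValuationRing R]
    [CommRing S] [IsDomain S] [IsDiscreteValuationRing S]
    [Algebra R S] [Field K] [Algebra R K] [IsFractionRing R K]
    [Field Kh] [Algebra S Kh] [IsFractionRing S Kh]
    [Algebra K Kh] [Algebra R Kh] [IsScalarTower R S Kh] [IsScalarTower R K Kh]
    (π : R) (hπR : Irreducible π) (hπ : Irreducible (algebraMap R S π)) :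
    Algebra.IsPushout R S K Kh := by
  have hinj : Function.Injective (algebraMap R S) := by
    have h1 : Function.Injective (algebraMap R Kh) := by
      rw [IsScalarTower.algebraMap_eq R K Kh]
      exact (algebraMap K Kh).injective.comp (IsFractionRing.injective R K)
    rw [IsScalarTower.algebraMap_eq R S Kh] at h1
    exact Function.Injective.of_comp h1
  have h1 : Algebra.algebraMapSubmonoid S (nonZeroDivisors R) ≤ nonZeroDivisors S := by
    rintro _ ⟨r, hr, rfl⟩
    refine mem_nonZeroDivisors_of_ne_zero fun h => ?_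
    exact nonZeroDivisors.ne_zero hr (hinj (by rw [h, map_zero]))
  have h2 : IsLocalization (Algebra.algebraMapSubmonoid S (nonZeroDivisors R)) Kh := by
    refine (IsLocalization.iff_of_le_of_exists_dvd _ (nonZeroDivisors S) h1 fun n hn => ?_).mpr
      inferInstance
    obtain ⟨k, w, hw⟩ := IsDiscreteValuationRing.eq_unit_mul_pow_irreducible
      (nonZeroDivisors.ne_zero hn) hπ
    refine ⟨algebraMap R S (π ^ k), ⟨π ^ k, pow_mem (mem_nonZeroDivisors_of_ne_zero hπR.ne_zero) k,
      rfl⟩, ⟨(↑w⁻¹ : S), ?_⟩⟩
    rw [hw, map_pow, mul_comm (w : S), mul_assoc, Units.mul_inv, mul_one]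
  exact Algebra.isPushout_of_isLocalization (nonZeroDivisors R) K S Kh

/-- `S ⊗_R Ω = Ω'`. -/
theorem isPushout_of_dense (R S K Ω Kh Ω' : Type u) [CommRing R] [IsDomain R] [IsDiscreteValuationRing R]
    [CommRing S] [IsDomain S] [IsDiscreteValuationRing S] [Algebra R S]
    [Field K] [Algebra R K] [IsFractionRing R K] [Field Ω] [Algebra K Ω] [IsSepClosure K Ω]
    [Algebra R Ω] [IsScalarTower R K Ω]
    [Field Kh] [Algebra S Kh] [IsFractionRing S Kh] [Field Ω'] [Algebra Kh Ω'] [IsSepClosure Kh Ω']
    [Algebra S Ω'] [IsScalarTower S Kh Ω'] [Algebra Ω Ω'] [Algebra R Ω'] [IsScalarTower R Ω Ω']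
    [IsScalarTower R S Ω']
    (π : R) (hπR : Irreducible π) (hπ : Irreducible (algebraMap R S π))
    [HenselianRing R (Ideal.span {π})]
    [HenselianRing S (Ideal.span {algebraMap R S π})] (hd : Dense R S π) :
    Algebra.IsPushout R S Ω Ω' := by
  have hinjΩ : Function.Injective (algebraMap R Ω') := by
    rw [IsScalarTower.algebraMap_eq R Ω Ω', IsScalarTower.algebraMap_eq R K Ω]
    exact (algebraMap Ω Ω').injective.comp
      ((algebraMap K Ω).injective.comp (IsFractionRing.injective R K))
  have hinj : Function.Injective (algebraMap R S) := by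
    rw [IsScalarTower.algebraMap_eq R S Ω'] at hinjΩ
    exact Function.Injective.of_comp hinjΩ
  let _ : Algebra R Kh := Algebra.compHom Kh (algebraMap R S)
  have t1 : IsScalarTower R S Kh := IsScalarTower.of_algebraMap_eq fun _ => rfl
  have hinjK : Function.Injective (algebraMap R Kh) := by
    rw [IsScalarTower.algebraMap_eq R S Kh]
    exact (IsFractionRing.injective S Kh).comp hinj
  let _ : Algebra K Kh := (IsFractionRing.lift hinjK : K →+* Kh).toAlgebra
  have t2 : IsScalarTower R K Kh := IsScalarTower.of_algebraMap_eq fun r =>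
    (IsFractionRing.lift_algebraMap hinjK r).symm
  let _ : Algebra K Ω' := ((algebraMap Ω Ω').comp (algebraMap K Ω)).toAlgebra
  have t3 : IsScalarTower K Ω Ω' := IsScalarTower.of_algebraMap_eq fun _ => rfl
  have t4 : IsScalarTower R K Ω' := IsScalarTower.of_algebraMap_eq fun r => by
    rw [IsScalarTower.algebraMap_apply K Ω Ω', ← IsScalarTower.algebraMap_apply R K Ω,
      ← IsScalarTower.algebraMap_apply R Ω Ω']
  have t5 : IsScalarTower R Kh Ω' := IsScalarTower.of_algebraMap_eq fun r => by
    rw [IsScalarTower.algebraMap_apply R S Kh, ← IsScalarTower.algebraMap_apply S Kh Ω',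
      ← IsScalarTower.algebraMap_apply R S Ω']
  have t6 : IsScalarTower K Kh Ω' := by
    refine IsScalarTower.of_algebraMap_eq' ?_
    refine IsLocalization.ringHom_ext (nonZeroDivisors R) ?_
    rw [RingHom.comp_assoc, ← IsScalarTower.algebraMap_eq R K Kh, ← IsScalarTower.algebraMap_eq R K Ω',
      ← IsScalarTower.algebraMap_eq R Kh Ω']
  have h1 : Algebra.IsPushout R S K Kh := isPushout_fractions R S K Kh π hπR hπ
  have h2 : Algebra.IsPushout K Kh Ω Ω' := isPushout_fields R S K Kh π hπR hπ hd Ω Ω'
  have h3 : Algebra.IsPushout R K S Kh := h1.symm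
  exact ((Algebra.IsPushout.comp_iff (R := R) (S := K) (T := Ω) (R' := S) (S' := Kh) (T' := Ω')).mpr
    h2.symm).symm

/-- `R̂ ⊗_R Ω = Ω'`. -/
theorem isPushout_completion (R K Ω : Type u) [CommRing R] [IsDomain R] [IsDiscreteValuationRing R]
    [HenselianLocalRing R]
    [Field K] [Algebra R K] [IsFractionRing R K] [Field Ω] [Algebra K Ω] [IsSepClosure K Ω]
    [Algebra R Ω] [IsScalarTower R K Ω]
    [IsDomain (AdicCompletion (IsLocalRing.maximalIdeal R) R)]
    [IsDiscreteValuationRing (AdicCompletion (IsLocalRing.maximalIdeal R) R)] (Kh Ω' : Type u)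
    [Field Kh] [Algebra (AdicCompletion (IsLocalRing.maximalIdeal R) R) Kh]
    [IsFractionRing (AdicCompletion (IsLocalRing.maximalIdeal R) R) Kh] [Field Ω'] [Algebra Kh Ω']
    [IsSepClosure Kh Ω'] [Algebra (AdicCompletion (IsLocalRing.maximalIdeal R) R) Ω']
    [IsScalarTower (AdicCompletion (IsLocalRing.maximalIdeal R) R) Kh Ω'] [Algebra Ω Ω'] [Algebra R Ω']
    [IsScalarTower R Ω Ω'] [IsScalarTower R (AdicCompletion (IsLocalRing.maximalIdeal R) R) Ω'] :
    Algebra.IsPushout R (AdicCompletion (IsLocalRing.maximalIdeal R) R) Ω Ω' := by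
  obtain ⟨π, hπ⟩ := IsDiscreteValuationRing.exists_irreducible R
  have hmax : IsLocalRing.maximalIdeal R = Ideal.span {π} := hπ.maximalIdeal_eq
  have hmaxS : IsLocalRing.maximalIdeal (AdicCompletion (IsLocalRing.maximalIdeal R) R) =
      Ideal.span {algebraMap R (AdicCompletion (IsLocalRing.maximalIdeal R) R) π} := by
    rw [AdicCompletion.maximalIdeal_eq_map]
    refine (congrArg (Ideal.map (algebraMap R (AdicCompletion (IsLocalRing.maximalIdeal R) R)))
      hmax).trans ?_
    rw [Ideal.map_span, Set.image_singleton]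
  have hπS : Irreducible (algebraMap R (AdicCompletion (IsLocalRing.maximalIdeal R) R) π) :=
    (IsDiscreteValuationRing.irreducible_iff_uniformizer _).mpr hmaxS
  have hR : HenselianRing R (Ideal.span {π}) := by rw [← hmax]; infer_instance
  have hS : HenselianRing (AdicCompletion (IsLocalRing.maximalIdeal R) R)
      (Ideal.span {algebraMap R (AdicCompletion (IsLocalRing.maximalIdeal R) R) π}) := by
    rw [← hmaxS]; infer_instance
  have hd : Dense R (AdicCompletion (IsLocalRing.maximalIdeal R) R) π := by
    have := Completion.dense_adicCompletion R π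
    rwa [← hmax] at this
  exact isPushout_of_dense R (AdicCompletion (IsLocalRing.maximalIdeal R) R) K Ω Kh Ω' π hπ hπS hd

end Groth.Agent.Vancyc.H699.SepPushout
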