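import Groth.Prelude.Def_VanCyc
import Mathlib.Algebra.Category.Ring.Constructions
import Mathlib.AlgebraicGeometry.Pullbacks

/-!
# The square of geometric generic fibres for a change of trait

If `R' ⊗_R Ω = Ω'` then the commutative square `geomChange ≫ jbar = jbar' ≫ bcπ` is cartesian.
-/

set_option autoImplicit false
universe u
open CategoryTheory CategoryTheory.Limits AlgebraicGeometry

namespace Groth.Agent.Vancyc.H699.TraitSquare

open VanCyc

variable {R : Type u} [CommRing R] (R' : Type u) [CommRing R'] [Algebra R R']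
  (Ω Ω' : Type u) [Field Ω] [Field Ω'] [Algebra R Ω] [Algebra R' Ω'] [Algebra Ω Ω'] [Algebra R Ω']
  [IsScalarTower R Ω Ω'] [IsScalarTower R R' Ω']
  {X : Scheme.{u}} (f : X ⟶ Spec (CommRingCat.of R))

/-- `Spec` of a pushout of rings. -/
theorem isPullback_toS (h : Algebra.IsPushout R R' Ω Ω') :
    IsPullback (toS Ω Ω') (toS R' Ω') (toS R Ω) (toS R R') := by
  have h1 : IsPushout (CommRingCat.ofHom (algebraMap R Ω)) (CommRingCat.ofHom (algebraMap R R'))
      (CommRingCat.ofHom (algebraMap Ω Ω')) (CommRingCat.ofHom (algebraMap R' Ω')) :=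
    CommRingCat.isPushout_iff_isPushout.mpr h.symm
  exact (h1.op.map Scheme.Spec).flip

/-- The square of geometric generic fibres. -/
theorem isPullback_geomChange (h : Algebra.IsPushout R R' Ω Ω') :
    IsPullback (geomChange R' Ω Ω' f) (jA R' (bcf R' f) Ω') (jA R f Ω) (bcπ R' f) := by
  have s1 : IsPullback (jA R' (bcf R' f) Ω') (fibStr R' (bcf R' f) Ω') (bcf R' f) (toS R' Ω') :=
    IsPullback.of_hasPullback _ _
  have s2 : IsPullback (bcπ R' f) (bcf R' f) f (toS R R') := IsPullback.of_hasPullback _ _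
  have s3 : IsPullback (jA R f Ω) (fibStr R f Ω) f (toS R Ω) := IsPullback.of_hasPullback _ _
  have s5 := s1.flip.paste_horiz (isPullback_toS R' Ω Ω' h)
  have e1 : bcf R' f ≫ toS R R' = bcπ R' f ≫ f := s2.w.symm
  have e3 : fibStr R' (bcf R' f) Ω' ≫ toS Ω Ω' = geomChange R' Ω Ω' f ≫ fibStr R f Ω := by
    simp only [geomChange, fibStr, pullback.map, pullback.lift_snd]
  rw [e1, e3] at s5
  exact IsPullback.of_right s5 (geomChange_jA R' Ω Ω' f) s3.flip

end Groth.Agent.Vancyc.H699.TraitSquare
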