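import Groth.Agent.EtpbcB.PunctLim3
import Groth.Agent.Proet.FacInd
import Groth.Prelude.Def_Smoothing
import Mathlib.CategoryTheory.Limits.Preserves.Over
import Mathlib.RingTheory.Smooth.Basic
import Mathlib.RingTheory.RingHom.Smooth

/-!
# Universal base change for ind-smooth ring maps

`ubc_of_indSmooth`: if `B` is an ind-smooth `A`-algebra (every map from a finitely presented `A`-algebra factors
through a smooth one) then all base changes of `Spec B ⟶ Spec A` satisfy base change against all quasi-compact
quasi-separated morphisms, for torsion sheaves of orders invertible on `S` (`Spec A` over `S`).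
-/

set_option autoImplicit false
universe u
open CategoryTheory CategoryTheory.Limits AlgebraicGeometry Opposite

noncomputable section
namespace Groth.Agent.Vancyc.H699.UbcInd

open Groth.Agent.EtpbcB Groth.Agent.EtpbcB.BCU Groth.Agent.EtpbcB.PunctLim
  Groth.Agent.Proet.FacM Groth.Agent.Proet.FacInd

variable {A : Type u} [CommRing A]

/-- Smooth algebras as a predicate. -/
abbrev Sm (A : Type u) [CommRing A] : ∀ (W : Type u) [CommRing W] [Algebra A W], Prop :=
  fun W _ _ => Algebra.Smooth A W

lemma good_smooth : Good (Sm A) where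
  iso W W' _ _ _ _ e h := by
    have : Algebra.Smooth A W := h
    exact Algebra.Smooth.of_equiv e
  fp W _ _ h := by
    have : Algebra.Smooth A W := h
    infer_instance

lemma fac_of_indSmooth {B : Type u} [CommRing B] [Algebra A B] (h : Smoothing.IndSmooth A B) :
    Fac A (Sm A) B := by
  intro Z _ _ hZ g
  obtain ⟨W, i1, i2, hW, a, b, hab⟩ := h Z hZ g
  exact ⟨W, i1, i2, a, b, hW, hab⟩

theorem ubc_of_isInd {B : Type u} [CommRing B] [Algebra A B] (h : IsInd A (Sm A) B) {S : Scheme.{u}}
    (s : Spec (CommRingCat.of A) ⟶ S) :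
    UBC S (Spec.map (CommRingCat.ofHom (algebraMap A B))) := by
  obtain ⟨J, i1, i2, D, c, hc, hP, ⟨e⟩⟩ := h
  have key : UBC S (Spec.map c.pt.hom) := by
    refine UBC.of_limit limVan_main (I := Jᵒᵖ) ((D ⋙ Under.forget _).op ⋙ Scheme.Spec)
      (fun {a b} φ => ?_) (Scheme.Spec.mapCone ((Under.forget _).mapCocone c).op)
      (isLimitOfPreserves Scheme.Spec (isColimitOfPreserves (Under.forget _) hc).op) s
      (fun a => Spec.map (D.obj a.unop).hom) (fun a b φ => ?_) _ (fun a => ?_) (fun a => ?_)
    · change IsAffineHom (Spec.map _)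
      infer_instance
    · change Spec.map _ ≫ Spec.map _ = _
      rw [← Spec.map_comp]
      exact congrArg Spec.map (Under.w (D.map φ.unop))
    · change Spec.map _ ≫ Spec.map _ = _
      rw [← Spec.map_comp]
      exact congrArg Spec.map (Under.w (c.ι.app a.unop))
    · have h1 := hP a.unop
      have h2 : (D.obj a.unop).hom.hom.Smooth := by
        algebraize [(D.obj a.unop).hom.hom]
        exact h1
      have h3 : Smooth (Spec.map (D.obj a.unop).hom) := by
        rw [HasRingHomProperty.Spec_iff (P := @Smooth)]
        exact h2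
      exact @UBC.of_smooth _ _ _ s (Spec.map (D.obj a.unop).hom) h3
  have he : Spec.map (CommRingCat.ofHom (algebraMap A B)) = Spec.map e.hom.right ≫ Spec.map c.pt.hom := by
    rw [← Spec.map_comp]
    exact congrArg Spec.map (Under.w e.hom).symm
  rw [he]
  have : IsIso e.hom.right := inferInstanceAs (IsIso ((Under.forget _).map e.hom))
  exact key.comp (UBC.of_isIso _)

/-- Universal base change for ind-smooth algebras. -/
theorem ubc_of_indSmooth {B : Type u} [CommRing B] [Algebra A B] (h : Smoothing.IndSmooth A B)
    {S : Scheme.{u}} (s : Spec (CommRingCat.of A) ⟶ S) :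
    UBC S (Spec.map (CommRingCat.ofHom (algebraMap A B))) :=
  ubc_of_isInd (Fac.isInd good_smooth (fac_of_indSmooth h)) s

end Groth.Agent.Vancyc.H699.UbcInd
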