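import Groth.Agent.Etbc.H203.Idem
import Mathlib.FieldTheory.IsSepClosed
import Mathlib.FieldTheory.SeparableClosure
import Mathlib.RingTheory.Etale.Field
import Mathlib.RingTheory.IsTensorProduct

/-!
# Separable closures of henselian discretely valued fields and completion

`R → S` discrete valuation rings with common uniformizer `π`, both henselian, `R` dense in `S`, `K`, `Kh` the
fraction fields, `Ω`, `Ω'` separable closures with `Ω → Ω'`.  Then `Kh ⊗_K Ω → Ω'` is an isomorphism, and
`S ⊗_R Ω → Ω'` is an isomorphism (`isPushout_sepClosure`).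
-/

set_option autoImplicit false
universe u
open Polynomial TensorProduct

namespace Groth.Agent.Vancyc.H699.SepTensor

open Groth.Agent.Etbc.H203.Descend Groth.Agent.Etbc.H203

/-- Ring homomorphisms from an étale algebra without non-trivial idempotents to a field are injective. -/
theorem injective_of_idem {k T Ω : Type u} [Field k] [CommRing T] [Algebra k T] [Algebra.Etale k T]
    (hT : ∀ e : T, e * e = e → e = 0 ∨ e = 1) [Field Ω] (φ : T →+* Ω) : Function.Injective φ := by
  classical
  obtain ⟨I, hI, A, i1, i2, e, hA⟩ := (Algebra.Etale.iff_exists_algEquiv_prod k T).mp inferInstance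
  rw [injective_iff_map_eq_zero]
  intro x hx
  by_contra hx0
  obtain ⟨i, hi⟩ : ∃ i, e x i ≠ 0 := by
    by_contra h
    push Not at h
    exact hx0 (e.injective (by rw [map_zero]; exact funext h))
  have hε : (Pi.single i 1 : ∀ i, A i) * Pi.single i 1 = Pi.single i 1 := by
    rw [← Pi.single_mul, mul_one]
  rcases hT (e.symm (Pi.single i 1)) (by rw [← map_mul, hε]) with h2 | h2
  · have h3 : (Pi.single i 1 : ∀ i, A i) = 0 := by
      rw [← e.apply_symm_apply (Pi.single i 1), h2, map_zero]
    have h4 := congrFun h3 i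
    rw [Pi.single_eq_same, Pi.zero_apply] at h4
    exact one_ne_zero h4
  · have h3 : x * e.symm (Pi.single i (e x i)⁻¹) = e.symm (Pi.single i 1) := by
      apply e.injective
      rw [map_mul, e.apply_symm_apply, e.apply_symm_apply]
      funext j
      rw [Pi.mul_apply]
      by_cases hj : j = i
      · subst hj
        rw [Pi.single_eq_same, Pi.single_eq_same, mul_inv_cancel₀ hi]
      · rw [Pi.single_eq_of_ne hj, Pi.single_eq_of_ne hj, mul_zero]
    have h4 : φ (x * e.symm (Pi.single i (e x i)⁻¹)) = 1 := by rw [h3, h2, map_one]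
    rw [map_mul, hx, zero_mul] at h4
    exact zero_ne_one h4

/-- Elements of a tensor product with an algebraic field extension come from finite subextensions. -/
theorem exists_finite_subext {K A Ω : Type u} [Field K] [CommRing A] [Algebra K A] [Field Ω] [Algebra K Ω]
    [Algebra.IsAlgebraic K Ω] (x : A ⊗[K] Ω) :
    ∃ (L : IntermediateField K Ω) (_ : FiniteDimensional K L) (y : A ⊗[K] L),
      Algebra.TensorProduct.map (AlgHom.id K A) L.val y = x := by
  induction x using TensorProduct.induction_on with
  | zero => exact ⟨⊥, inferInstance, 0, map_zero _⟩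
  | tmul a w =>
    have hw : IsIntegral K w := Algebra.IsIntegral.isIntegral w
    exact ⟨IntermediateField.adjoin K {w}, IntermediateField.adjoin.finiteDimensional hw,
      a ⊗ₜ ⟨w, IntermediateField.mem_adjoin_simple_self K w⟩, by simp⟩
  | add x y hx hy =>
    obtain ⟨L₁, h₁, x', hx'⟩ := hx
    obtain ⟨L₂, h₂, y', hy'⟩ := hy
    refine ⟨L₁ ⊔ L₂, IntermediateField.finiteDimensional_sup L₁ L₂,
      Algebra.TensorProduct.map (AlgHom.id K A) (IntermediateField.inclusion le_sup_left) x' +
      Algebra.TensorProduct.map (AlgHom.id K A) (IntermediateField.inclusion le_sup_right) y', ?_⟩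
    rw [map_add, ← AlgHom.comp_apply, ← AlgHom.comp_apply, ← Algebra.TensorProduct.map_comp,
      ← Algebra.TensorProduct.map_comp]
    exact congrArg₂ (· + ·) hx' hy'

/-- Elements of an extension of a separably closed field which are separable over a smaller field come from it. -/
theorem mem_range_of_isSeparable {K Ω Ω' : Type u} [Field K] [Field Ω] [Algebra K Ω] [IsSepClosed Ω] [Field Ω']
    [Algebra Ω Ω'] [Algebra K Ω'] [IsScalarTower K Ω Ω'] {z : Ω'} (hz : IsSeparable K z) :
    ∃ w : Ω, algebraMap Ω Ω' w = z := by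
  have h1 : ((minpoly K z).map (algebraMap K Ω)).Splits := IsSepClosed.splits_codomain _ hz
  have h2 : (minpoly K z).map (algebraMap K Ω) ≠ 0 :=
    Polynomial.map_ne_zero (minpoly.ne_zero hz.isIntegral)
  have h3 : (((minpoly K z).map (algebraMap K Ω)).map (algebraMap Ω Ω')).IsRoot z := by
    rw [Polynomial.map_map, ← IsScalarTower.algebraMap_eq, IsRoot.def, eval_map_algebraMap,
      minpoly.aeval]
  exact h1.mem_range_of_isRoot h2 h3

section

variable (R S K Kh : Type u) [CommRing R] [IsDomain R] [IsDiscreteValuationRing R]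
  [CommRing S] [IsDomain S] [IsDiscreteValuationRing S]
  [Algebra R S] [Field K] [Algebra R K] [IsFractionRing R K]
  [Field Kh] [Algebra S Kh] [IsFractionRing S Kh]
  [Algebra K Kh] [Algebra R Kh] [IsScalarTower R S Kh] [IsScalarTower R K Kh]

include R S in
/-- `Kh ⊗_K L` is (a field, hence) contained in every field to which it maps. -/
theorem injective_tensor_finite (π : R) (hπR : Irreducible π) (hπ : Irreducible (algebraMap R S π))
    [HenselianRing R (Ideal.span {π})]
    [HenselianRing S (Ideal.span {algebraMap R S π})] (hd : Dense R S π)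
    (L : Type u) [Field L] [Algebra K L] [FiniteDimensional K L]
    [Algebra.IsSeparable K L] {Ω' : Type u} [Field Ω'] (φ : Kh ⊗[K] L →+* Ω') :
    Function.Injective φ := by
  have : Algebra.Etale K L := Algebra.Etale.iff_exists_algEquiv_prod K L |>.mpr
    ⟨PUnit, inferInstance, fun _ => L, fun _ => inferInstance, fun _ => inferInstance,
      (AlgEquiv.funUnique K PUnit L).symm, fun _ => ⟨inferInstance, inferInstance⟩⟩
  have : Algebra.Etale Kh (Kh ⊗[K] L) := inferInstance
  refine injective_of_idem (k := Kh) (fun e he => ?_) φ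
  obtain ⟨e', he', rfl⟩ := Idem.exists_idem R S K Kh π hπR hπ hd L e he
  rcases IsIdempotentElem.iff_eq_zero_or_one.mp he' with h | h
  · left; rw [h, TensorProduct.tmul_zero]
  · right; rw [h]; rfl

include R S in
/-- Injectivity. -/
theorem injective_tensor (π : R) (hπR : Irreducible π) (hπ : Irreducible (algebraMap R S π))
    [HenselianRing R (Ideal.span {π})]
    [HenselianRing S (Ideal.span {algebraMap R S π})] (hd : Dense R S π)
    (Ω : Type u) [Field Ω] [Algebra K Ω] [Algebra.IsSeparable K Ω] {Ω' : Type u} [Field Ω']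
    (φ : Kh ⊗[K] Ω →+* Ω') : Function.Injective φ := by
  rw [injective_iff_map_eq_zero]
  intro x hx
  obtain ⟨L, hL, y, rfl⟩ := exists_finite_subext x
  have h1 := injective_tensor_finite R S K Kh π hπR hπ hd L
    (φ.comp (Algebra.TensorProduct.map (AlgHom.id K Kh) L.val).toRingHom)
  have h2 : y = 0 := h1 (by rw [map_zero]; exact hx)
  rw [h2, map_zero]

include R S in
/-- Surjectivity. -/
theorem exists_tensor (π : R) (hπ : Irreducible (algebraMap R S π))
    [HenselianRing S (Ideal.span {algebraMap R S π})] (hd : Dense R S π)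
    (Ω : Type u) [Field Ω] [Algebra K Ω] [IsSepClosed Ω] (Ω' : Type u) [Field Ω'] [Algebra Kh Ω']
    [Algebra.IsSeparable Kh Ω'] [Algebra Ω Ω'] [Algebra K Ω'] [IsScalarTower K Ω Ω']
    [IsScalarTower K Kh Ω'] (z : Ω') :
    z ∈ (Algebra.TensorProduct.lift (Algebra.ofId Kh Ω') (IsScalarTower.toAlgHom K Ω Ω')
      (fun _ _ => .all _ _) : Kh ⊗[K] Ω →ₐ[Kh] Ω').range := by
  set φ : Kh ⊗[K] Ω →ₐ[Kh] Ω' := Algebra.TensorProduct.lift (Algebra.ofId Kh Ω')
    (IsScalarTower.toAlgHom K Ω Ω') (fun _ _ => .all _ _) with hφ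
  have hz : IsIntegral Kh z := Algebra.IsIntegral.isIntegral z
  let L' := IntermediateField.adjoin Kh {z}
  have hL' : FiniteDimensional Kh L' := IntermediateField.adjoin.finiteDimensional hz
  have hs' : Algebra.IsSeparable Kh L' := Algebra.isSeparable_tower_bot_of_isSeparable Kh L' Ω'
  obtain ⟨g, hg, ⟨e⟩⟩ := exists_of_field R S K Kh π hπ hd L'
  let D := AdjoinRoot (g.map (algebraMap R K))
  have hDfin : Module.Finite K D := (hg.map _).finite_adjoinRoot
  have hE' : Algebra.Etale Kh L' := Algebra.Etale.iff_exists_algEquiv_prod Kh L' |>.mpr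
    ⟨PUnit, inferInstance, fun _ => L', fun _ => inferInstance, fun _ => inferInstance,
      (AlgEquiv.funUnique Kh PUnit L').symm, fun _ => ⟨inferInstance, inferInstance⟩⟩
  have hE1 : Algebra.Etale Kh (Kh ⊗[K] D) := Algebra.Etale.of_equiv e.symm
  have hE : Algebra.Etale K D := Algebra.Etale.of_etale_tensorProduct_of_faithfullyFlat Kh
  let ψ : D →ₐ[K] Ω' := ((L'.val.comp e.toAlgHom).restrictScalars K).comp
    (Algebra.TensorProduct.includeRight : D →ₐ[K] Kh ⊗[K] D)
  have hψ : ∀ d : D, ψ d = (e (1 ⊗ₜ d) : Ω') := fun d => rfl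
  -- the image of `ψ` consists of separable elements
  have hsep : ∀ d : D, IsSeparable K (ψ d) := by
    intro d
    have hfin : Module.Finite K ψ.range := Module.Finite.of_surjective ψ.rangeRestrict.toLinearMap
      ψ.rangeRestrict_surjective
    have hint : Algebra.IsIntegral K ψ.range := Algebra.IsIntegral.of_finite K _
    let _ : Field ψ.range := (isField_of_isIntegral_of_isField' (Field.toIsField K)).toField
    have hun : Algebra.FormallyUnramified K ψ.range :=
      Algebra.FormallyUnramified.of_surjective ψ.rangeRestrict ψ.rangeRestrict_surjective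
    have h1 : Algebra.IsSeparable K ψ.range := (Algebra.FormallyUnramified.iff_isSeparable K _).mp hun
    have h2 : IsSeparable K (ψ.rangeRestrict d) := h1.isSeparable K _
    have h3 : minpoly K (ψ d) = minpoly K (ψ.rangeRestrict d) :=
      (minpoly.algHom_eq ψ.range.val Subtype.val_injective (ψ.rangeRestrict d))
    unfold IsSeparable
    rw [h3]
    exact h2
  -- the image of `Kh ⊗ D` lies in the range
  have hkey : ∀ t : Kh ⊗[K] D, (e t : Ω') ∈ φ.range := by
    intro t
    induction t using TensorProduct.induction_on with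
    | zero => rw [map_zero]; exact zero_mem _
    | tmul a d =>
      obtain ⟨w, hw⟩ := mem_range_of_isSeparable (Ω := Ω) (hsep d)
      refine ⟨a ⊗ₜ w, ?_⟩
      have h1 : (a ⊗ₜ[K] d : Kh ⊗[K] D) = a • (1 ⊗ₜ d) := by
        rw [TensorProduct.smul_tmul', smul_eq_mul, mul_one]
      rw [h1, map_smul]
      change φ (a ⊗ₜ w) = a • (e (1 ⊗ₜ d) : Ω')
      rw [← hψ, ← hw, hφ, Algebra.TensorProduct.lift_tmul, Algebra.smul_def]
      rfl
    | add x y hx hy =>
      rw [map_add]
      exact add_mem hx hy
  obtain ⟨t, ht⟩ := e.surjective ⟨z, IntermediateField.mem_adjoin_simple_self Kh z⟩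
  have := hkey t
  rwa [ht] at this

attribute [local instance] Algebra.TensorProduct.rightAlgebra in
/-- `Kh ⊗_K Ω = Ω'`. -/
theorem isPushout_fields (π : R) (hπR : Irreducible π) (hπ : Irreducible (algebraMap R S π))
    [HenselianRing R (Ideal.span {π})]
    [HenselianRing S (Ideal.span {algebraMap R S π})] (hd : Dense R S π)
    (Ω : Type u) [Field Ω] [Algebra K Ω] [IsSepClosure K Ω] (Ω' : Type u) [Field Ω'] [Algebra Kh Ω']
    [IsSepClosure Kh Ω'] [Algebra Ω Ω'] [Algebra K Ω'] [IsScalarTower K Ω Ω']
    [IsScalarTower K Kh Ω'] : Algebra.IsPushout K Kh Ω Ω' := by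
  have h1 : IsSepClosed Ω := IsSepClosure.sep_closed K
  have h2 : Algebra.IsSeparable K Ω := IsSepClosure.separable
  have h3 : Algebra.IsSeparable Kh Ω' := IsSepClosure.separable
  let φ : Kh ⊗[K] Ω →ₐ[Kh] Ω' := Algebra.TensorProduct.lift (Algebra.ofId Kh Ω')
    (IsScalarTower.toAlgHom K Ω Ω') (fun _ _ => .all _ _)
  have hbij : Function.Bijective φ :=
    ⟨injective_tensor R S K Kh π hπR hπ hd Ω φ.toRingHom,
      fun z => exists_tensor R S K Kh π hπ hd Ω Ω' z⟩
  refine Algebra.IsPushout.of_equiv (AlgEquiv.ofBijective φ hbij) ?_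
  ext w
  change φ (1 ⊗ₜ w) = _
  simp [φ]

end

end Groth.Agent.Vancyc.H699.SepTensor
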